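import Groth.Prelude.Def_SGA1
import Groth.Agent.GrSegreLib.Dim
import Groth.Agent.S0558
import Mathlib

/-!
# Kummer algebras over regular local rings
-/

set_option autoImplicit false
set_option linter.style.haveILetI false

universe u

noncomputable section

open IsLocalRing

namespace Groth.Agent.KummerRegLib

variable {A : Type u} [CommRing A] {r : ℕ} (f : Fin r → A) (n : Fin r → ℕ)

/-- The images of the variables. -/
def T (i : Fin r) : SGA1.kummerAlg A f n := Ideal.Quotient.mk _ (MvPolynomial.X i)

theorem T_pow (i : Fin r) : T f n i ^ n i = algebraMap A (SGA1.kummerAlg A f n) (f i) := by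
  rw [T, ← map_pow]
  exact Ideal.Quotient.eq.2 (Ideal.subset_span ⟨i, rfl⟩)

theorem adjoin_T : Algebra.adjoin A (Set.range (T f n)) = ⊤ := by
  have h : Set.range (T f n) = Ideal.Quotient.mkₐ A _ '' Set.range MvPolynomial.X := by
    rw [← Set.range_comp]; rfl
  rw [h, ← AlgHom.map_adjoin, MvPolynomial.adjoin_range_X, Algebra.map_top, AlgHom.range_eq_top]
  exact Ideal.Quotient.mk_surjective

theorem module_finite (hn : ∀ i, 1 ≤ n i) : Module.Finite A (SGA1.kummerAlg A f n) := by
  refine Module.finite_def.2 ?_
  rw [← Algebra.top_toSubmodule, ← adjoin_T f n]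
  refine fg_adjoin_of_finite (Set.finite_range _) ?_
  rintro _ ⟨i, rfl⟩
  exact IsIntegral.of_pow (hn i) (T_pow f n i ▸ isIntegral_algebraMap)

theorem algebraMap_injective [IsDomain A] (hn : ∀ i, 1 ≤ n i) :
    Function.Injective (algebraMap A (SGA1.kummerAlg A f n)) := by
  let L := AlgebraicClosure (FractionRing A)
  have h : ∀ i, ∃ t : L, t ^ n i = algebraMap A L (f i) := fun i =>
    IsAlgClosed.exists_pow_nat_eq _ (hn i)
  choose t ht using h
  let ψ : SGA1.kummerAlg A f n →ₐ[A] L := Ideal.Quotient.liftₐ _ (MvPolynomial.aeval t) fun x hx => by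
    induction hx using Submodule.span_induction with
    | mem y hy => obtain ⟨i, rfl⟩ := hy; simp [ht]
    | zero => simp
    | add y z _ _ hy hz => rw [map_add, hy, hz, add_zero]
    | smul a y _ hy => rw [smul_eq_mul, map_mul, hy, mul_zero]
  intro a b hab
  apply IsFractionRing.injective A (FractionRing A)
  apply (algebraMap (FractionRing A) L).injective
  rw [← IsScalarTower.algebraMap_apply, ← IsScalarTower.algebraMap_apply, ← ψ.commutes a, ← ψ.commutes b, hab]

theorem sub_mem_span (b : SGA1.kummerAlg A f n) :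
    ∃ a : A, b - algebraMap A _ a ∈ Ideal.span (Set.range (T f n)) := by
  obtain ⟨p, rfl⟩ := Ideal.Quotient.mk_surjective b
  induction p using MvPolynomial.induction_on with
  | C a => exact ⟨a, by convert zero_mem (Ideal.span (Set.range (T f n))); exact sub_eq_zero.2 rfl⟩
  | add p q hp hq =>
    obtain ⟨a, ha⟩ := hp
    obtain ⟨b, hb⟩ := hq
    exact ⟨a + b, by rw [map_add, map_add, add_sub_add_comm]; exact add_mem ha hb⟩
  | mul_X p i _ =>
    exact ⟨0, by rw [map_zero, sub_zero, map_mul]; exact Ideal.mul_mem_left _ _ (Ideal.subset_span ⟨i, rfl⟩)⟩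

theorem isRegularLocalRing [IsRegularLocalRing A] (hm : ∀ i, f i ∈ maximalIdeal A)
    (hf : LinearIndependent (ResidueField A) (fun i => (maximalIdeal A).toCotangent ⟨f i, hm i⟩))
    (hn : ∀ i, 1 ≤ n i) : IsRegularLocalRing (SGA1.kummerAlg A f n) := by
  classical
  haveI : IsDomain A := Groth.Agent.S0558.result A
  set B := SGA1.kummerAlg A f n
  haveI : Module.Finite A B := module_finite f n hn
  haveI : IsNoetherianRing B := IsNoetherianRing.of_finite A B
  have hinj := algebraMap_injective f n hn
  haveI : Nontrivial B := hinj.nontrivial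
  -- complete `f` to a regular system of parameters
  have hli : LinearIndepOn (ResidueField A) id (Set.range fun i => (maximalIdeal A).toCotangent ⟨f i, hm i⟩) :=
    hf.linearIndepOn_id
  let s := hli.extend (Set.subset_univ _)
  let bas := Module.Basis.extend hli
  haveI : Finite s := Module.Finite.finite_basis bas
  let S' : Set (CotangentSpace A) := s \ Set.range fun i => (maximalIdeal A).toCotangent ⟨f i, hm i⟩
  have hlift : ∀ x : CotangentSpace A, ∃ g : maximalIdeal A, (maximalIdeal A).toCotangent g = x :=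
    fun x => Ideal.toCotangent_surjective _ x
  choose g hg using hlift
  let G : Set (maximalIdeal A) := (Set.range fun i => (⟨f i, hm i⟩ : maximalIdeal A)) ∪ g '' S'
  have hG : Submodule.span A ((maximalIdeal A).toCotangent '' G) = ⊤ := by
    have hs : s ⊆ (maximalIdeal A).toCotangent '' G := by
      intro x hx
      by_cases h : x ∈ Set.range fun i => (maximalIdeal A).toCotangent ⟨f i, hm i⟩
      · obtain ⟨i, rfl⟩ := h
        exact ⟨_, Or.inl ⟨i, rfl⟩, rfl⟩
      · exact ⟨g x, Or.inr ⟨x, ⟨hx, h⟩, rfl⟩, hg x⟩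
    rw [eq_top_iff]
    intro x _
    have hx : x ∈ Submodule.span (ResidueField A) s := by
      have := bas.span_eq
      rw [Module.Basis.range_extend] at this
      rw [this]; trivial
    rw [← Submodule.restrictScalars_mem A, Submodule.restrictScalars_span A (ResidueField A) residue_surjective] at hx
    exact Submodule.span_mono hs hx
  have hGspan : Submodule.span A G = ⊤ := by
    exact IsLocalRing.CotangentSpace.span_image_eq_top_iff.1 (by
      rw [eq_top_iff]
      intro x _
      have : x ∈ Submodule.span A ((maximalIdeal A).toCotangent '' G) := hG ▸ Submodule.mem_top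
      exact (Submodule.span_le_restrictScalars A (ResidueField A) _) this)
  let R : Set B := Set.range (T f n) ∪ (fun a : maximalIdeal A => algebraMap A B a) '' (g '' S')
  let M : Ideal B := Ideal.span R
  have hmM : (maximalIdeal A).map (algebraMap A B) ≤ M := Ideal.map_le_iff_le_comap.2 fun a ha => by
    have : (⟨a, ha⟩ : maximalIdeal A) ∈ Submodule.span A G := hGspan ▸ Submodule.mem_top
    have h2 : G ⊆ (Submodule.comap (maximalIdeal A).subtype (M.comap (algebraMap A B)) : Submodule A (maximalIdeal A)) := by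
      rintro x (⟨i, rfl⟩ | hx)
      · show algebraMap A B (f i) ∈ M
        rw [← T_pow, ← Nat.sub_add_cancel (hn i), pow_succ]
        exact Ideal.mul_mem_left _ _ (Ideal.subset_span (Or.inl ⟨i, rfl⟩))
      · exact Ideal.subset_span (Or.inr ⟨x, hx, rfl⟩)
    exact Submodule.span_le.2 h2 this
  have hle : ∀ Q : Ideal B, Q.IsMaximal → M ≤ Q := fun Q hQ => by
    haveI := hQ
    have hc : Q.comap (algebraMap A B) = maximalIdeal A :=
      IsLocalRing.eq_maximalIdeal (Ideal.isMaximal_comap_of_isIntegral_of_isMaximal Q)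
    refine Ideal.span_le.2 ?_
    rintro x (⟨i, rfl⟩ | ⟨a, -, rfl⟩)
    · refine hQ.isPrime.mem_of_pow_mem (n i) ?_
      rw [T_pow]
      exact Ideal.mem_comap.1 (hc ▸ hm i)
    · exact Ideal.mem_comap.1 (hc.symm ▸ a.2)
  obtain ⟨Q₀, hQ₀⟩ := Ideal.exists_maximal B
  have hMtop : M ≠ ⊤ := fun h => hQ₀.ne_top (top_le_iff.1 (h ▸ hle Q₀ hQ₀))
  have hMmax : M.IsMaximal := by
    refine Ideal.isMaximal_iff.2 ⟨fun h => hMtop ((Ideal.eq_top_iff_one _).2 h), fun J x hJ hx hxJ => ?_⟩
    obtain ⟨a, ha⟩ := sub_mem_span f n x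
    have hb : x - algebraMap A B a ∈ M := Ideal.span_mono Set.subset_union_left ha
    have hu : IsUnit a := by
      by_contra hna
      exact hx (by simpa using add_mem hb (hmM (Ideal.mem_map_of_mem _ hna)))
    have : algebraMap A B a ∈ J := by simpa using sub_mem hxJ (hJ hb)
    exact (Ideal.eq_top_iff_one J).1 (Ideal.eq_top_of_isUnit_mem _ this (hu.map _))
  haveI : IsLocalRing B := IsLocalRing.of_unique_max_ideal
    ⟨M, hMmax, fun Q hQ => (hMmax.eq_of_le hQ.ne_top (hle Q hQ)).symm⟩
  refine IsRegularLocalRing.of_spanFinrank_maximalIdeal_le _ ?_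
  rw [← IsLocalRing.eq_maximalIdeal hMmax, ← GrSegreLib.ringKrullDim_eq_of_integral_injective (algebraMap A B) hinj
    (algebraMap_isIntegral_iff.2 inferInstance), ← (IsRegularLocalRing.iff_finrank_cotangentSpace A).1 inferInstance,
    Module.finrank_eq_nat_card_basis bas]
  refine WithBot.coe_le_coe.2 (Nat.cast_le.2 ?_)
  have hfs : s.Finite := Set.toFinite _
  have hR : R.Finite := (Set.finite_range _).union (((hfs.subset Set.sdiff_subset).image _).image _)
  refine (Submodule.spanFinrank_span_le_ncard_of_finite hR).trans ?_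
  rw [Nat.card_coe_set_eq]
  refine (Set.ncard_union_le _ _).trans ?_
  have h1 : (Set.range (T f n)).ncard ≤ (Set.range fun i => (maximalIdeal A).toCotangent ⟨f i, hm i⟩).ncard := by
    rw [Set.ncard_range_of_injective hf.injective, ← Set.image_univ, Nat.card_eq_fintype_card]
    exact (Set.ncard_image_le Set.finite_univ).trans (by simp)
  have h2 : ((fun a : maximalIdeal A => algebraMap A B a) '' (g '' S')).ncard ≤ S'.ncard :=
    (Set.ncard_image_le ((hfs.subset Set.sdiff_subset).image _)).trans (Set.ncard_image_le (hfs.subset Set.sdiff_subset))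
  have hsub : (Set.range fun i => (maximalIdeal A).toCotangent ⟨f i, hm i⟩) ⊆ s := hli.subset_extend _
  have h3 := Set.ncard_sdiff_add_ncard_of_subset hsub hfs
  show _ + _ ≤ _
  calc _ ≤ (Set.range fun i => (maximalIdeal A).toCotangent ⟨f i, hm i⟩).ncard + S'.ncard := Nat.add_le_add h1 h2
    _ = s.ncard := by rw [add_comm]; exact h3

theorem pow_add_of_sq_zero {C : Type u} [CommRing C] (x d : C) (hd : d * d = 0) :
    ∀ m : ℕ, (x + d) ^ m = x ^ m + (m : C) * x ^ (m - 1) * d := by
  intro m
  induction m with
  | zero => simp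
  | succ m ih =>
    rw [pow_succ, ih, Nat.cast_add_one, Nat.add_sub_cancel]
    rcases m.eq_zero_or_pos with rfl | hm
    · simp
    · obtain ⟨k, rfl⟩ : ∃ k, m = k + 1 := ⟨m - 1, by omega⟩
      rw [Nat.add_sub_cancel]
      linear_combination ((k + 1 : ℕ) : C) * x ^ k * hd

theorem etale [IsNoetherianRing A] (hn : ∀ i, 1 ≤ n i) (hu : ∀ i, IsUnit ((n i : ℕ) : A)) :
    letI := (Localization.awayMap (algebraMap A (SGA1.kummerAlg A f n)) (∏ i, f i)).toAlgebra
    Algebra.Etale (Localization.Away (∏ i, f i))
      (Localization.Away (algebraMap A (SGA1.kummerAlg A f n) (∏ i, f i))) := by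
  letI := (Localization.awayMap (algebraMap A (SGA1.kummerAlg A f n)) (∏ i, f i)).toAlgebra
  let B := SGA1.kummerAlg A f n
  let S := Localization.Away (∏ i, f i)
  let Bf := Localization.Away (algebraMap A B (∏ i, f i))
  have htow : ∀ a, algebraMap S Bf (algebraMap A S a) = algebraMap B Bf (algebraMap A B a) := fun a =>
    by
    show Localization.awayMap (algebraMap A B) (∏ i, f i) (algebraMap A S a) = _
    simp [Localization.awayMap, IsLocalization.Away.map, S, Bf, B]
  haveI : IsScalarTower A S Bf := IsScalarTower.of_algebraMap_eq fun a =>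
    ((htow a).trans (IsScalarTower.algebraMap_apply A B Bf a).symm).symm
  haveI : Module.Finite A B := module_finite f n hn
  haveI : Algebra.FiniteType B Bf := IsLocalization.finiteType_of_monoid_fg (Submonoid.powers (algebraMap A B (∏ i, f i))) Bf
  haveI : Algebra.FiniteType A Bf := Algebra.FiniteType.trans (S := B) inferInstance inferInstance
  haveI : Algebra.FiniteType S Bf := Algebra.FiniteType.of_restrictScalars_finiteType A S Bf
  haveI : IsNoetherianRing S := IsLocalization.isNoetherianRing (Submonoid.powers (∏ i, f i)) S inferInstance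
  haveI : Algebra.FinitePresentation S Bf := Algebra.FinitePresentation.of_finiteType.1 inferInstance
  refine ⟨?_, inferInstance⟩
  rw [Algebra.FormallyEtale.iff_comp_bijective]
  intro C _ _ I hI
  letI : Algebra A C := ((algebraMap S C).comp (algebraMap A S)).toAlgebra
  haveI : IsScalarTower A S C := IsScalarTower.of_algebraMap_eq fun _ => rfl
  have hff : IsUnit (algebraMap A C (∏ i, f i)) :=
    (IsLocalization.Away.algebraMap_isUnit (S := S) (∏ i, f i)).map (algebraMap S C)
  have hfi : ∀ i, IsUnit (algebraMap A C (f i)) := fun i =>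
    isUnit_of_dvd_unit (map_dvd _ (Finset.dvd_prod_of_mem f (Finset.mem_univ i))) hff
  have hsq : ∀ a ∈ I, ∀ b ∈ I, a * b = 0 := fun a ha b hb => by
    have : a * b ∈ I ^ 2 := by rw [pow_two]; exact Ideal.mul_mem_mul ha hb
    rwa [hI, Ideal.mem_bot] at this
  have hBf : ∀ a, algebraMap B Bf (algebraMap A B a) = algebraMap S Bf (algebraMap A S a) := fun a => (htow a).symm
  constructor
  · intro g₁ g₂ hg
    refine AlgHom.coe_ringHom_injective (IsLocalization.ringHom_ext (Submonoid.powers (algebraMap A B (∏ i, f i)))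
      (Ideal.Quotient.ringHom_ext (MvPolynomial.ringHom_ext (fun a => ?_) fun i => ?_)))
    · show g₁ (algebraMap B Bf (algebraMap A B a)) = g₂ (algebraMap B Bf (algebraMap A B a))
      rw [hBf, g₁.commutes, g₂.commutes]
    · show g₁ (algebraMap B Bf (T f n i)) = g₂ (algebraMap B Bf (T f n i))
      set x := g₁ (algebraMap B Bf (T f n i))
      set y := g₂ (algebraMap B Bf (T f n i))
      have hd : y - x ∈ I := Ideal.Quotient.eq.1 (DFunLike.congr_fun hg (algebraMap B Bf (T f n i))).symm
      have hx : x ^ n i = algebraMap A C (f i) := by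
        rw [← map_pow, ← map_pow, T_pow, hBf, g₁.commutes]; rfl
      have hy : y ^ n i = algebraMap A C (f i) := by
        rw [← map_pow, ← map_pow, T_pow, hBf, g₂.commutes]; rfl
      have hxu : IsUnit x := (isUnit_pow_iff (by have := hn i; omega : n i ≠ 0)).1 (hx ▸ hfi i)
      have h := pow_add_of_sq_zero x (y - x) (hsq _ hd _ hd) (n i)
      rw [add_sub_cancel, hx, hy, left_eq_add] at h
      have : IsUnit ((n i : C) * x ^ (n i - 1)) := ((map_natCast (algebraMap A C) (n i)) ▸ (hu i).map _).mul (hxu.pow _)
      exact (sub_eq_zero.1 (this.mul_right_eq_zero.1 h)).symm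
  · intro g
    have hx : ∀ i, ∃ x : C, x ^ n i = algebraMap A C (f i) ∧
        Ideal.Quotient.mk I x = g (algebraMap B Bf (T f n i)) := by
      intro i
      obtain ⟨x, hx⟩ := Ideal.Quotient.mk_surjective (g (algebraMap B Bf (T f n i)))
      have he : x ^ n i - algebraMap A C (f i) ∈ I := Ideal.Quotient.eq.1 (by
        rw [map_pow, hx, ← map_pow, ← map_pow, T_pow, hBf, g.commutes]; rfl)
      have hxu : IsUnit x := by
        refine (isUnit_pow_iff (by have := hn i; omega : n i ≠ 0)).1 ?_
        rw [← sub_add_cancel (x ^ n i) (algebraMap A C (f i))]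
        exact IsNilpotent.isUnit_add_right_of_commute ⟨2, by rw [pow_two]; exact hsq _ he _ he⟩ (hfi i) (Commute.all _ _)
      have hun : IsUnit ((n i : C) * x ^ (n i - 1)) := ((map_natCast (algebraMap A C) (n i)) ▸ (hu i).map _).mul (hxu.pow _)
      obtain ⟨v, hv⟩ := hun.exists_right_inv
      let d := -((x ^ n i - algebraMap A C (f i)) * v)
      have hd : d ∈ I := neg_mem (Ideal.mul_mem_right _ _ he)
      refine ⟨x + d, ?_, ?_⟩
      · rw [pow_add_of_sq_zero x d (hsq _ hd _ hd)]
        linear_combination -(x ^ n i - algebraMap A C (f i)) * hv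
      · rw [map_add, Ideal.Quotient.eq_zero_iff_mem.2 hd, add_zero, hx]
    choose x hx1 hx2 using hx
    let ψ : B →ₐ[A] C := Ideal.Quotient.liftₐ _ (MvPolynomial.aeval x) fun z hz => by
      induction hz using Submodule.span_induction with
      | mem y hy => obtain ⟨i, rfl⟩ := hy; simp [hx1]
      | zero => simp
      | add y z _ _ hy hz => rw [map_add, hy, hz, add_zero]
      | smul a y _ hy => rw [smul_eq_mul, map_mul, hy, mul_zero]
    have hψ : IsUnit (ψ.toRingHom (algebraMap A B (∏ i, f i))) := by
      show IsUnit (ψ _)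
      rw [ψ.commutes]; exact hff
    let L : Bf →+* C := IsLocalization.Away.lift (algebraMap A B (∏ i, f i)) hψ
    have hL : ∀ b, L (algebraMap B Bf b) = ψ b := fun b => IsLocalization.Away.lift_eq _ hψ b
    refine ⟨⟨L, fun s => ?_⟩, AlgHom.coe_ringHom_injective (IsLocalization.ringHom_ext
      (Submonoid.powers (algebraMap A B (∏ i, f i)))
      (Ideal.Quotient.ringHom_ext (MvPolynomial.ringHom_ext (fun a => ?_) fun i => ?_)))⟩
    · refine DFunLike.congr_fun (IsLocalization.ringHom_ext (Submonoid.powers (∏ i, f i))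
        (j := L.comp (algebraMap S Bf)) (k := algebraMap S C) (RingHom.ext fun a => ?_)) s
      show L (algebraMap S Bf (algebraMap A S a)) = _
      rw [← hBf, hL, ψ.commutes]; rfl
    · show Ideal.Quotient.mk I (L (algebraMap B Bf (algebraMap A B a))) = g (algebraMap B Bf (algebraMap A B a))
      rw [hL, ψ.commutes, hBf, g.commutes]; rfl
    · show Ideal.Quotient.mk I (L (algebraMap B Bf (T f n i))) = g (algebraMap B Bf (T f n i))
      rw [hL, ← hx2 i]
      congr 1
      show MvPolynomial.aeval x (MvPolynomial.X i) = x i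
      simp

end Groth.Agent.KummerRegLib
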